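import Groth.Agent.Synt29.Normalization
import Groth.Agent.Neron6.BirOpen
import Mathlib.AlgebraicGeometry.Morphisms.UniversallyOpen

/-!
# Normalization commutes with smooth base change, integral case
-/

set_option autoImplicit false
set_option backward.isDefEq.respectTransparency false
set_option backward.isDefEq.respectTransparency.types false
set_option linter.style.haveILetI false

open CategoryTheory CategoryTheory.Limits AlgebraicGeometry IsLocalRing

namespace Groth.Agent.NormSmooth17

universe u

variable {X Y : Scheme.{u}} (f : X ⟶ Y) [Smooth f] [IsIntegral X] [IsIntegral Y]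
  [QuasiCompact (Y.fromSpecStalk (genericPoint Y))] [QuasiSeparated (Y.fromSpecStalk (genericPoint Y))]

theorem map_genericPoint : f (genericPoint X) = genericPoint Y := by
  obtain ⟨x, hx, hfx⟩ := Flat.generalizingMap f (genericPoint_specializes (f (genericPoint X)))
  rw [← hfx, (Specializes.antisymm hx (genericPoint_specializes x)).eq]

theorem toNormalization_eq (z : Spec (Y.presheaf.stalk (genericPoint Y))) :
    haveI := Synt29.isIntegral_normalization Y
    (Y.fromSpecStalk (genericPoint Y)).toNormalization z = genericPoint (Curv2.normalization Y) := by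
  haveI := Synt29.isIntegral_normalization Y
  have hz : z = closedPoint (Y.presheaf.stalk (genericPoint Y)) := by
    haveI : Unique (PrimeSpectrum (Y.presheaf.stalk (genericPoint Y))) :=
      inferInstanceAs (Unique (PrimeSpectrum Y.functionField))
    exact Subsingleton.elim (α := PrimeSpectrum (Y.presheaf.stalk (genericPoint Y))) z _
  have h1 : Curv2.normalizationι Y ((Y.fromSpecStalk (genericPoint Y)).toNormalization z) =
      genericPoint Y := by
    have h2 : ((Y.fromSpecStalk (genericPoint Y)).toNormalization ≫ Curv2.normalizationι Y) z =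
        Y.fromSpecStalk (genericPoint Y) z := by
      rw [show (Y.fromSpecStalk (genericPoint Y)).toNormalization ≫ Curv2.normalizationι Y =
        Y.fromSpecStalk (genericPoint Y) from Scheme.Hom.toNormalization_fromNormalization _]
    rw [Scheme.Hom.comp_apply] at h2
    refine h2.trans ?_
    rw [hz]
    exact Y.fromSpecStalk_closedPoint
  have h3 : (Y.fromSpecStalk (genericPoint Y)).toNormalization z ∈
      (Curv2.normalizationι Y).base ⁻¹' {genericPoint Y} := h1
  rw [(Synt29.normalization_generic Y).2.2] at h3
  exact h3

theorem isNormalScheme_pullback :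
    Pi1.IsNormalScheme (pullback f (Curv2.normalizationι Y)) :=
  Neron6.isNormalScheme_of_smooth (pullback.snd f (Curv2.normalizationι Y))
    (NormCurve.isNormalScheme_normalization Y)

theorem pullback_structure :
    IrreducibleSpace ↥(pullback f (Curv2.normalizationι Y)) ∧
    (∀ [IrreducibleSpace ↥(pullback f (Curv2.normalizationι Y))],
      pullback.fst f (Curv2.normalizationι Y) (genericPoint _) = genericPoint X ∧
        IsIso ((pullback.fst f (Curv2.normalizationι Y)).stalkMap (genericPoint _))) := by
  haveI := Synt29.isIntegral_normalization Y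
  let ν := Curv2.normalizationι Y
  let s := Y.fromSpecStalk (genericPoint Y)
  let t : Spec (Y.presheaf.stalk (genericPoint Y)) ⟶ Curv2.normalization Y := s.toNormalization
  have hts : t ≫ ν = s := s.toNormalization_fromNormalization
  let φ : pullback f s ⟶ pullback f ν :=
    pullback.lift (pullback.fst f s) (pullback.snd f s ≫ t) (by rw [Category.assoc, hts, pullback.condition])
  have hφ1 : φ ≫ pullback.fst f ν = pullback.fst f s := pullback.lift_fst _ _ _
  have hφ2 : φ ≫ pullback.snd f ν = pullback.snd f s ≫ t := pullback.lift_snd _ _ _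
  have hpb : IsPullback φ (pullback.snd f s) (pullback.snd f ν) t :=
    IsPullback.of_right (by rw [hφ1, hts]; exact IsPullback.of_hasPullback f s) hφ2
      (IsPullback.of_hasPullback f ν)
  have hrange : ∀ n : ↥(pullback f ν), pullback.snd f ν n = genericPoint (Curv2.normalization Y) →
      n ∈ Set.range φ := by
    intro n hn
    obtain ⟨z⟩ : Nonempty ↥(Spec (Y.presheaf.stalk (genericPoint Y))) := ⟨closedPoint _⟩
    have hn' : n ∈ Set.range (pullback.fst (pullback.snd f ν) t) := by
      rw [Scheme.Pullback.range_fst]
      exact ⟨z, by rw [hn]; exact toNormalization_eq z⟩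
    obtain ⟨w, hw⟩ := hn'
    refine ⟨hpb.isoPullback.inv w, ?_⟩
    rw [← Scheme.Hom.comp_apply, IsPullback.isoPullback_inv_fst]
    exact hw
  obtain ⟨q, hq⟩ : genericPoint X ∈ Set.range (pullback.fst f s) := by
    rw [Scheme.Pullback.range_fst]
    exact ⟨closedPoint _, by rw [map_genericPoint f]; exact Y.fromSpecStalk_closedPoint⟩
  have hgen : ∀ n : ↥(pullback f ν), φ q ⤳ n := by
    intro n
    obtain ⟨n₁, hn₁, hn₁'⟩ := Flat.generalizingMap (pullback.snd f ν)
      (genericPoint_specializes (pullback.snd f ν n))
    obtain ⟨q₁, rfl⟩ := hrange n₁ hn₁'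
    refine (Specializes.map ?_ φ.continuous).trans hn₁
    apply (pullback.fst f s).isEmbedding.toIsInducing.specializes_iff.1
    rw [hq]
    exact genericPoint_specializes _
  have hG : IsGenericPoint (φ q) (Set.univ : Set ↥(pullback f ν)) :=
    Set.eq_univ_of_forall fun n => (hgen n).mem_closure
  have hirr : IrreducibleSpace ↥(pullback f ν) := by
    haveI : Nonempty ↥(pullback f ν) := ⟨φ q⟩
    haveI : PreirreducibleSpace ↥(pullback f ν) := ⟨hG.isIrreducible.2⟩
    exact ⟨inferInstance⟩
  refine ⟨hirr, ?_⟩
  intro _
  have hp : genericPoint ↥(pullback f ν) = φ q := (genericPoint_spec _).eq hG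
  rw [hp]
  have hfq : pullback.fst f ν (φ q) = genericPoint X := by
    rw [← Scheme.Hom.comp_apply, hφ1, hq]
  refine ⟨hfq, ?_⟩
  haveI := Synt29.isReduced_of_isNormalScheme (isNormalScheme_pullback f)
  haveI : IsIntegral (pullback f ν) := isIntegral_of_irreducibleSpace_of_isReduced _
  have hfN : IsField ((pullback f ν).presheaf.stalk (φ q)) := by
    rw [← hp]; exact Field.toIsField (pullback f ν).functionField
  have hfX : IsField (X.presheaf.stalk (pullback.fst f ν (φ q))) := by
    rw [hfq]; exact Field.toIsField X.functionField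
  haveI : Nontrivial ((pullback f s).presheaf.stalk q) := IsLocalRing.toNontrivial
  haveI : Nontrivial ((pullback f ν).presheaf.stalk (φ q)) := IsLocalRing.toNontrivial
  letI := hfN.toField
  letI := hfX.toField
  have hsurj : Function.Surjective ((φ ≫ pullback.fst f ν).stalkMap q) := by
    have key : ∀ (g g' : pullback f s ⟶ X), g = g' → Function.Surjective (g'.stalkMap q) →
        Function.Surjective (g.stalkMap q) := by rintro g g' rfl h; exact h
    exact key _ _ hφ1 ((pullback.fst f s).stalkMap_surjective q)
  rw [Scheme.Hom.stalkMap_comp] at hsurj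
  change Function.Surjective (⇑(φ.stalkMap q) ∘ ⇑((pullback.fst f ν).stalkMap (φ q))) at hsurj
  rw [ConcreteCategory.isIso_iff_bijective]
  exact ⟨RingHom.injective ((pullback.fst f ν).stalkMap (φ q)).hom,
    Function.Surjective.of_comp_left hsurj (RingHom.injective (φ.stalkMap q).hom)⟩

/-- An endomorphism over the base of a separated `P ⟶ X` fixing the generic point is the identity. -/
theorem eq_id_of_comp_fst {P : Scheme.{u}} [IsIntegral P] (g : P ⟶ X) [IsSeparated g]
    [IsIso (g.stalkMap (genericPoint P))] (a : P ⟶ P) (ha : a ≫ g = g)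
    (hp : a (genericPoint P) = genericPoint P) : a = 𝟙 P := by
  have key : ∀ (p : P), a p = p → IsIso (g.stalkMap p) →
      P.fromSpecStalk p ≫ a = P.fromSpecStalk p := by
    intro p hp hi
    let β : P.presheaf.stalk p ⟶ P.presheaf.stalk p :=
      P.presheaf.stalkSpecializes (specializes_of_eq hp) ≫ a.stalkMap p
    have h1 : P.fromSpecStalk p ≫ a = Spec.map β ≫ P.fromSpecStalk p := by
      rw [Spec.map_comp, Category.assoc, Scheme.SpecMap_stalkSpecializes_fromSpecStalk,
        Scheme.SpecMap_stalkMap_fromSpecStalk]
    have h2 : Spec.map (g.stalkMap p ≫ β) ≫ X.fromSpecStalk (g p) =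
        Spec.map (g.stalkMap p) ≫ X.fromSpecStalk (g p) := by
      rw [Spec.map_comp, Category.assoc, Scheme.SpecMap_stalkMap_fromSpecStalk, ← reassoc_of% h1, ha]
    rw [cancel_mono] at h2
    have h3 : g.stalkMap p ≫ β = g.stalkMap p := Spec.map_injective h2
    have h4 : β = 𝟙 _ := by rw [← cancel_epi (g.stalkMap p), h3, Category.comp_id]
    rw [h1, h4, Spec.map_id, Category.id_comp]
  haveI : IsDominant (P.fromSpecStalk (genericPoint P)) := ⟨by
    refine Dense.mono ?_ (s₁ := {genericPoint P}) ?_
    · rintro _ rfl
      exact ⟨closedPoint _, P.fromSpecStalk_closedPoint⟩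
    · exact dense_iff_closure_eq.2 (genericPoint_spec P)⟩
  exact ext_of_isDominant_of_isSeparated g (by rw [ha, Category.id_comp])
    (P.fromSpecStalk (genericPoint P)) (by rw [key _ hp inferInstance, Category.comp_id])

end Groth.Agent.NormSmooth17
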